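import Groth.Agent.BlowFree.Content
import Groth.Agent.Fitting.BlowUp
import Groth.Prelude.Def_BlowUp2
import Mathlib

/-!
# Blowing up contents of minors: the torsion-free transform is free near the fibres
-/

set_option autoImplicit false
set_option linter.style.haveILetI false

universe u

open TensorProduct

namespace Groth.Agent.BlowFree

open FittLib

theorem mem_powTorsion_iff {A N : Type u} [CommRing A] [AddCommGroup N] [Module A N] (x : A) (m : N) :
    m ∈ FlatCA.powTorsion A x N ↔ ∃ k : ℕ, x ^ k • m = 0 := by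
  refine (Submodule.mem_iSup_of_directed _ ?_).trans (exists_congr fun k => Submodule.mem_torsionBy_iff _ _)
  exact Monotone.directed_le fun i j hij m hm => by
    rw [Submodule.mem_torsionBy_iff] at hm ⊢
    rw [← Nat.sub_add_cancel hij, pow_add, mul_smul, hm, smul_zero]

/-- powers of elements dividing powers of each other have the same torsion -/
theorem powTorsion_eq {A : Type u} [CommRing A] (N : Type u) [AddCommGroup N] [Module A N] (x y : A) {i j : ℕ}
    (hxy : x ∣ y ^ i) (hyx : y ∣ x ^ j) : FlatCA.powTorsion A x N = FlatCA.powTorsion A y N := by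
  have key : ∀ (x y : A) (i : ℕ), x ∣ y ^ i → FlatCA.powTorsion A x N ≤ FlatCA.powTorsion A y N := by
    intro x y i ⟨c, hc⟩ m hm
    obtain ⟨k, hk⟩ := (mem_powTorsion_iff x m).1 hm
    refine (mem_powTorsion_iff y m).2 ⟨i * k, ?_⟩
    rw [pow_mul, hc, mul_pow, mul_comm, mul_smul, hk, smul_zero]
  exact le_antisymm (key x y i hxy) (key y x j hyx)

/-- minors of the relations of a base change -/
theorem minors_isBaseChange {S S' : Type u} [CommRing S] [CommRing S'] [Algebra S S'] {M M' : Type u} [AddCommGroup M]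
    [Module S M] [AddCommGroup M'] [Module S' M'] [Module S M'] [IsScalarTower S S' M'] {φ : M →ₗ[S] M'}
    (hφ : IsBaseChange S' φ) {ι : Type} [Fintype ι] (x : ι → M) (hx : Submodule.span S (Set.range x) = ⊤) (m : ℕ) :
    minors S' (fun i => φ (x i)) m = (minors S x m).map (algebraMap S S') := by
  rw [← minors_tmul S' hx m]
  have hrel : ∀ z : ι → S', z ∈ rel S' (fun i => φ (x i)) ↔ z ∈ rel S' (fun i => (1 : S') ⊗ₜ[S] x i) := fun z => by
    rw [mem_rel, mem_rel, ← hφ.equiv.map_eq_zero_iff (x := ∑ i, z i • ((1 : S') ⊗ₜ[S] x i)), map_sum]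
    simp only [map_smul, hφ.equiv_tmul, one_smul]
  exact le_antisymm (minors_le fun z e hz => minor_mem_minors (fun j => (hrel _).1 (hz j)) e)
    (minors_le fun z e hz => minor_mem_minors (fun j => (hrel _).2 (hz j)) e)

variable {R S : Type u} [CommRing R] [CommRing S] [Algebra R S] {R' : Type u} [CommRing R'] [Algebra R R']
  {S' : Type u} [CommRing S'] [Algebra S S'] [Algebra R' S'] [Algebra R S']
  [IsScalarTower R S S'] [IsScalarTower R R' S']

/-- divisibility of minors by a generator of the ideal of coefficients -/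
theorem exists_quotient [DecidableEq R] (σ : S →ₗ[R] S →₀ R)
    (hσ : (Finsupp.linearCombination R id).comp σ = LinearMap.id) {α : R'} (f : R) (x : S)
    (hx : ∀ c ∈ coords σ x, ∃ y : R', y * α = algebraMap R R' (f * c)) :
    ∃ U : S', algebraMap R S' f * algebraMap S S' x = algebraMap R' S' α * U := by
  choose y hy using hx
  refine ⟨∑ i ∈ (σ x).support.attach,
    algebraMap R' S' (y (σ x i) (mem_coords.2 ⟨i, i.2, rfl⟩)) * algebraMap S S' i, ?_⟩
  conv_lhs => rw [← sum_coords hσ x, map_sum, Finset.mul_sum, ← Finset.sum_attach]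
  rw [Finset.mul_sum]
  refine Finset.sum_congr rfl fun i _ => ?_
  rw [Algebra.smul_def, map_mul, ← IsScalarTower.algebraMap_apply R S S', ← mul_assoc, ← map_mul,
    IsScalarTower.algebraMap_apply R R' S' (f * σ x i), ← hy _ (mem_coords.2 ⟨i, i.2, rfl⟩), map_mul]
  ring

/-- the quotient misses a prime as soon as one of its coordinates does -/
theorem quotient_notMem [DecidableEq R] [Algebra.IsPushout R S R' S'] (σ : S →ₗ[R] S →₀ R) {α : R'}
    (hα : α ∈ nonZeroDivisors R') {f : R} {x : S} {U : S'}
    (hU : algebraMap R S' f * algebraMap S S' x = algebraMap R' S' α * U)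
    {c : R} (hc : c ∈ coords σ x) {y : R'} (hy : y * α = algebraMap R R' (f * c))
    (p' : Ideal R') (hyp : y ∉ p') : U ∉ p'.map (algebraMap R' S') := by
  obtain ⟨i, -, rfl⟩ := mem_coords.1 hc
  have hB : IsBaseChange R' (IsScalarTower.toAlgHom R S S').toLinearMap :=
    (Algebra.IsPushout.symm (inferInstance : Algebra.IsPushout R S R' S')).out
  let θ : S' →ₗ[R'] R' := hB.lift ((Algebra.linearMap R R').comp ((Finsupp.lapply i).comp σ))
  have hθ : ∀ s, θ (algebraMap S S' s) = algebraMap R R' (σ s i) := fun s => hB.lift_eq _ s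
  intro hmem
  apply hyp
  have h1 : θ U ∈ p' := by
    rw [← Submodule.restrictScalars_mem R', ← Ideal.smul_top_eq_map] at hmem
    refine Submodule.smul_induction_on (p := fun m => θ m ∈ p') hmem (fun b hb m _ => ?_) fun u v hu hv => ?_
    · rw [map_smul, smul_eq_mul]; exact Ideal.mul_mem_right _ _ hb
    · rw [map_add]; exact add_mem hu hv
  have h2 := congrArg θ hU
  rw [IsScalarTower.algebraMap_apply R R' S' f, ← Algebra.smul_def,
    ← Algebra.smul_def, map_smul, map_smul, hθ, smul_eq_mul, smul_eq_mul, ← map_mul, ← hy, mul_comm] at h2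
  rw [(mul_cancel_left_mem_nonZeroDivisors hα).1 h2]
  exact h1

/-- the core statement over a ring where the ideal is principal -/
theorem free_near_fibre [Module.Flat R S] [Algebra.IsPushout R S R' S'] {α : R'} (hα : α ∈ nonZeroDivisors R')
    (p' : Ideal R') [p'.IsPrime] (hdom : IsDomain (p'.Fiber S'))
    {M M' : Type u} [AddCommGroup M] [Module S M] [AddCommGroup M'] [Module S' M'] [Module S M']
    [IsScalarTower S S' M'] (φ : M →ₗ[S] M') (hφ : IsBaseChange S' φ)
    {ι : Type} [Fintype ι] {n r : ℕ} (hcard : Fintype.card ι = n + r)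
    (x : ι → M) (hx : Submodule.span S (Set.range x) = ⊤)
    {f c : R} {y : R'} (hy : y * α = algebraMap R R' (f * c)) (hyp : y ∉ p')
    (hvan : ∀ d ∈ minors S x (n + 1), 0 < r → ∃ k : ℕ, algebraMap R S f ^ k * d = 0)
    (z : Fin n → ι → S) (hz : ∀ j, z j ∈ rel S x) (U : (Fin n → ι) → S')
    (hU : ∀ e, algebraMap R S' f * algebraMap S S' (minor z e) = algebraMap R' S' α * U e)
    (e₀ : Fin n → ι) (he₀ : U e₀ ∉ p'.map (algebraMap R' S')) :
    ∃ g : S', g ∉ p'.map (algebraMap R' S') ∧
      Module.Free (Localization.Away g)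
        (LocalizedModule (Submonoid.powers g) (M' ⧸ FlatCA.powTorsion S' (algebraMap R' S' α) M')) ∧
      Module.rank (Localization.Away g)
        (LocalizedModule (Submonoid.powers g) (M' ⧸ FlatCA.powTorsion S' (algebraMap R' S' α) M')) = r := by
  classical
  have hB : IsBaseChange R' (IsScalarTower.toAlgHom R S S').toLinearMap :=
    (Algebra.IsPushout.symm (inferInstance : Algebra.IsPushout R S R' S')).out
  haveI : Module.Flat R' S' := Module.Flat.isBaseChange R R' S S' hB
  set A : S' := algebraMap R' S' α with hA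
  have hreg : ∀ k (w : S'), A ^ k * w = 0 → w = 0 := by
    intro k w hw
    have h1 : IsSMulRegular S' (α ^ k) := Module.Flat.isSMulRegular_of_nonZeroDivisors (pow_mem hα k)
    refine h1 ?_
    show α ^ k • w = α ^ k • (0 : S')
    rw [smul_zero, Algebra.smul_def, map_pow, ← hA, hw]
  set Y : S' := algebraMap R' S' y with hY
  set P := p'.map (algebraMap R' S') with hP
  haveI hPp : P.IsPrime := map_isPrime p' hdom
  have hYP : Y ∉ P := by
    intro h
    have h1 : p'.map (algebraMap R' S') ≤
        RingHom.ker (Algebra.TensorProduct.includeRight : S' →ₐ[R'] p'.Fiber S').toRingHom :=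
      Ideal.map_le_iff_le_comap.2 fun a ha => by
        rw [Ideal.mem_comap, RingHom.mem_ker]
        show (Algebra.TensorProduct.includeRight : S' →ₐ[R'] p'.Fiber S') (algebraMap R' S' a) = 0
        rw [AlgHom.commutes, IsScalarTower.algebraMap_apply R' p'.ResidueField (p'.Fiber S'),
          Ideal.algebraMap_residueField_eq_zero.2 ha, map_zero]
    have h2 : (Algebra.TensorProduct.includeRight : S' →ₐ[R'] p'.Fiber S') (algebraMap R' S' y) = 0 := h1 h
    rw [AlgHom.commutes, IsScalarTower.algebraMap_apply R' p'.ResidueField (p'.Fiber S')] at h2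
    have h3 : algebraMap R' p'.ResidueField y ≠ 0 := fun h0 => hyp (Ideal.algebraMap_residueField_eq_zero.1 h0)
    exact ((isUnit_iff_ne_zero.2 h3).map (algebraMap p'.ResidueField (p'.Fiber S'))).ne_zero h2
  set g := U e₀ * Y with hg
  have hgP : g ∉ P := fun h => (hPp.mem_or_mem h).elim he₀ hYP
  haveI hnt : Nontrivial (Localization.Away g) := by
    refine ⟨⟨0, 1, fun h01 => ?_⟩⟩
    obtain ⟨⟨_, k, rfl⟩, hk⟩ := (IsLocalization.map_eq_zero_iff (Submonoid.powers g) (Localization.Away g) 1).1
      (by rw [map_one]; exact h01.symm)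
    rw [mul_one] at hk
    exact hgP (hPp.mem_of_pow_mem k (by rw [show g ^ k = 0 from hk]; exact zero_mem _))
  let W := FlatCA.powTorsion S' A M'
  let xb : ι → M' ⧸ W := fun i => W.mkQ (φ (x i))
  have hz' : ∀ j, (fun i => algebraMap S S' (z j i)) ∈ rel S' (fun i => φ (x i)) := fun j => by
    rw [mem_rel]
    simp only [algebraMap_smul, ← map_smul, ← map_sum]
    rw [mem_rel.1 (hz j), map_zero]
  have hinj : Function.Injective e₀ := by
    by_contra hni
    have h1 := hU e₀
    rw [minor_eq_zero_of_not_injective z e₀ hni, map_zero, mul_zero] at h1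
    exact he₀ (by rw [hreg 1 (U e₀) (by rw [pow_one]; exact h1.symm)]; exact zero_mem _)
  -- Cramer in the torsion-free quotient
  have hcram : ∀ e a', ∑ i, U (Function.update e a' i) • xb i = 0 := by
    intro e a'
    have h1 : A • ∑ i, U (Function.update e a' i) • φ (x i) = 0 := by
      rw [Finset.smul_sum]
      have h2 := congrArg φ (sum_minor_update hz e a')
      rw [map_sum, map_zero] at h2
      rw [← smul_zero (algebraMap R S' f), ← h2, Finset.smul_sum]
      refine Finset.sum_congr rfl fun i _ => ?_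
      rw [map_smul, ← algebraMap_smul S' (minor z _) (φ (x i)), smul_smul, smul_smul, hU]
    simp only [xb, ← map_smul, ← map_sum]
    exact (Submodule.Quotient.mk_eq_zero W).2 ((mem_powTorsion_iff A _).2 ⟨1, by rw [pow_one]; exact h1⟩)
  have hspanM : Submodule.span S' (Set.range fun i => φ (x i)) = ⊤ := by
    rw [eq_top_iff]
    rintro q -
    refine hφ.inductionOn q _ (zero_mem _) (fun m => ?_) (fun s n hn => Submodule.smul_mem _ s hn) fun u v hu hv => add_mem hu hv
    obtain ⟨l, rfl⟩ := (Submodule.mem_span_range_iff_exists_fun S).1 (hx.ge (Submodule.mem_top : m ∈ ⊤))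
    rw [map_sum]
    refine Submodule.sum_mem _ fun i _ => ?_
    rw [map_smul, ← algebraMap_smul S' (l i) (φ (x i))]
    exact Submodule.smul_mem _ _ (Submodule.subset_span ⟨i, rfl⟩)
  let T := {i : ι // i ∉ Set.range e₀}
  let mk := LocalizedModule.mkLinearMap (Submonoid.powers g) (M' ⧸ W)
  let v : T → LocalizedModule (Submonoid.powers g) (M' ⧸ W) := fun j => mk (xb j.1)
  let Sp := Submodule.span (Localization.Away g) (Set.range v)
  have hxmem : ∀ i, mk (xb i) ∈ Sp := by
    intro i
    by_cases hi : i ∈ Set.range e₀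
    · obtain ⟨b, rfl⟩ := hi
      have h1 := congrArg (fun q => Y • q) (hcram e₀ b)
      simp only [smul_zero, Finset.smul_sum, smul_smul] at h1
      rw [← Finset.add_sum_erase _ _ (Finset.mem_univ (e₀ b)), Function.update_eq_self, mul_comm Y, ← hg] at h1
      have h2 : g • mk (xb (e₀ b)) ∈ Sp := by
        rw [← map_smul, eq_neg_of_add_eq_zero_left h1, map_neg, map_sum]
        refine neg_mem (Submodule.sum_mem _ fun i hi => ?_)
        rw [map_smul, ← algebraMap_smul (Localization.Away g) (Y * U _) (mk (xb i))]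
        by_cases hi' : i ∈ Set.range e₀
        · obtain ⟨d, rfl⟩ := hi'
          have h3 := hU (Function.update e₀ b (e₀ d))
          rw [minor_eq_zero_of_not_injective z, map_zero, mul_zero] at h3
          · rw [hreg 1 (U (Function.update e₀ b (e₀ d))) (by rw [pow_one]; exact h3.symm), mul_zero, map_zero, zero_smul]
            exact zero_mem _
          · intro hu
            have hdb : d ≠ b := by rintro rfl; exact (Finset.ne_of_mem_erase hi) rfl
            exact hdb (hu (by simp [hdb]))
        · exact Submodule.smul_mem _ _ (Submodule.subset_span ⟨⟨i, hi'⟩, rfl⟩)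
      obtain ⟨w, hw⟩ := (IsLocalization.map_units (Localization.Away g)
        (⟨g, Submonoid.mem_powers g⟩ : Submonoid.powers g)).exists_left_inv
      have h3 := Sp.smul_mem w h2
      rw [← algebraMap_smul (Localization.Away g) g (mk (xb (e₀ b))), smul_smul] at h3
      simp only at hw
      rwa [hw, one_smul] at h3
    · exact Submodule.subset_span ⟨⟨i, hi⟩, rfl⟩
  have hsp : ⊤ ≤ Sp := by
    rintro q -
    obtain ⟨⟨q', t⟩, hq⟩ := IsLocalizedModule.surj (Submonoid.powers g) mk q
    have hq' : ∀ w : M', mk (W.mkQ w) ∈ Sp := fun w => by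
      obtain ⟨l, rfl⟩ := (Submodule.mem_span_range_iff_exists_fun S').1 (hspanM.ge (Submodule.mem_top : w ∈ ⊤))
      simp only [map_sum, map_smul]
      refine Submodule.sum_mem _ fun i _ => ?_
      rw [← algebraMap_smul (Localization.Away g) (l i)]
      exact Submodule.smul_mem _ _ (hxmem i)
    obtain ⟨w, rfl⟩ := W.mkQ_surjective q'
    obtain ⟨t', ht'⟩ := (IsLocalization.map_units (Localization.Away g) t).exists_left_inv
    have h3 : t' • ((t : S') • q) ∈ Sp := Sp.smul_mem t' (hq ▸ hq' w)
    rwa [← algebraMap_smul (Localization.Away g) (t : S') q, smul_smul, ht', one_smul] at h3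
  have hli : LinearIndependent (Localization.Away g) v := by
    rw [Fintype.linearIndependent_iff]
    intro l hl j
    obtain ⟨⟨b, hb⟩, hint⟩ := IsLocalization.exist_integer_multiples_of_finite (Submonoid.powers g) l
    choose s hs using hint
    have hsum : mk (∑ i, s i • xb i.1) = 0 := by
      rw [map_sum, ← smul_zero b, ← hl, Finset.smul_sum]
      refine Finset.sum_congr rfl fun i _ => ?_
      rw [map_smul, ← algebraMap_smul (Localization.Away g) (s i), hs, smul_assoc]
    obtain ⟨⟨_, k, rfl⟩, hk⟩ := (IsLocalizedModule.eq_zero_iff (Submonoid.powers g) mk).1 hsum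
    replace hk : (g ^ k : S') • (∑ i : T, s i • xb i.1) = 0 := hk
    rw [show g ^ k • ∑ i : T, s i • xb i.1 = W.mkQ (g ^ k • ∑ i : T, s i • φ (x i.1)) by
      simp [xb, map_smul, map_sum], Submodule.mkQ_apply, Submodule.Quotient.mk_eq_zero] at hk
    obtain ⟨m, hm⟩ := (mem_powTorsion_iff A _).1 hk
    let t : ι → S' := fun i => if h : i ∉ Set.range e₀ then A ^ m * (g ^ k * s ⟨i, h⟩) else 0
    have ht : t ∈ rel S' (fun i => φ (x i)) := by
      rw [mem_rel, ← Finset.sum_subset (Finset.subset_univ (Finset.univ.filter fun i => i ∉ Set.range e₀))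
        (fun i _ hi => by
          have : t i = 0 := dif_neg (by simpa using hi)
          rw [this, zero_smul]),
        Finset.sum_subtype (p := fun i => i ∉ Set.range e₀) _ (fun i => by simp)]
      rw [Finset.smul_sum, Finset.smul_sum] at hm
      rw [← hm]
      refine Finset.sum_congr rfl fun i _ => ?_
      simp only [t, dif_pos i.2, smul_smul]
    have hr : 0 < r := by
      by_contra hr
      have h1 : Fintype.card T = 0 := by
        rw [show Fintype.card T = Fintype.card ι - Fintype.card (Set.range e₀) from Fintype.card_subtype_compl _,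
          Set.card_range_of_injective hinj, Fintype.card_fin]
        omega
      exact (Fintype.card_eq_zero_iff.1 h1).false j
    have hd : minor (Fin.cons t fun j i => algebraMap S S' (z j i)) (Fin.cons j.1 e₀) ∈
        minors S' (fun i => φ (x i)) (n + 1) := minor_mem_minors (fun i => by
      refine Fin.cases ?_ (fun i => ?_) i
      · simpa using ht
      · simpa using hz' i) _
    rw [minors_isBaseChange hφ x hx, minor_cons _ e₀ t (fun b => by simp [t, dif_neg]) j.1, minor_map] at hd
    obtain ⟨N, hN⟩ : ∃ N : ℕ, algebraMap R S' f ^ N * (t j.1 * algebraMap S S' (minor z e₀)) = 0 := by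
      generalize t j.1 * algebraMap S S' (minor z e₀) = w at hd ⊢
      induction hd using Submodule.span_induction with
      | mem d hd =>
        obtain ⟨d, hd, rfl⟩ := hd
        obtain ⟨N, hN⟩ := hvan d hd hr
        exact ⟨N, by rw [IsScalarTower.algebraMap_apply R S S', ← map_pow, ← map_mul, hN, map_zero]⟩
      | zero => exact ⟨0, mul_zero _⟩
      | add u v _ _ hu hv =>
        obtain ⟨N, hN⟩ := hu
        obtain ⟨N', hN'⟩ := hv
        exact ⟨N + N', by rw [mul_add, pow_add, mul_comm (_ ^ N), mul_assoc, hN, mul_zero, zero_add,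
          mul_comm (_ ^ N'), mul_assoc, hN', mul_zero]⟩
      | smul q u _ hu =>
        obtain ⟨N, hN⟩ := hu
        exact ⟨N, by rw [smul_eq_mul, ← mul_assoc, mul_comm _ q, mul_assoc, hN, mul_zero]⟩
    have hfc : algebraMap R S' f * algebraMap R S' c = Y * A := by
      rw [← map_mul, IsScalarTower.algebraMap_apply R R' S', ← hy, map_mul]
    have h1 : A ^ (N + m + 1) * (g ^ (k + N + 1) * s j) = 0 := by
      simp only [t, dif_pos j.2] at hN
      have h5 : algebraMap R S' f * algebraMap S S' (minor z e₀) = A * U e₀ := hU e₀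
      have h6 := congrArg (fun q => algebraMap R S' c ^ N * algebraMap R S' f * U e₀ ^ N * Y * q) hN
      simp only [mul_zero] at h6
      rw [← h6, hg]
      have h4 : algebraMap R S' f ^ N * algebraMap R S' c ^ N = Y ^ N * A ^ N := by
        rw [← mul_pow, ← mul_pow, hfc]
      linear_combination (A ^ m * g ^ k * s j * U e₀ ^ N * Y) * (-(A * U e₀) * h4 - (algebraMap R S' f ^ N * algebraMap R S' c ^ N) * h5)
    have h2 := hreg _ _ h1
    have h3 : algebraMap S' (Localization.Away g) (s j) = 0 :=
      (IsLocalization.map_eq_zero_iff (Submonoid.powers g) _ _).2 ⟨⟨g ^ (k + N + 1), k + N + 1, rfl⟩, h2⟩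
    rw [hs, ← algebraMap_smul (Localization.Away g) b (l j), smul_eq_mul] at h3
    exact (IsLocalization.map_units (Localization.Away g) (⟨b, hb⟩ : Submonoid.powers g)).mul_right_eq_zero.1 h3
  let B := Module.Basis.mk hli hsp
  refine ⟨g, hgP, Module.Free.of_basis B, ?_⟩
  rw [rank_eq_card_basis B, show Fintype.card T = Fintype.card ι - Fintype.card (Set.range e₀) from Fintype.card_subtype_compl _,
    Set.card_range_of_injective hinj, Fintype.card_fin, hcard, Nat.add_sub_cancel_left]

omit R' S' in
/-- the ideal of contents of minors, for finitely many basic opens of constant rank -/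
theorem exists_ideal_gen [Algebra.FinitePresentation R S] [Module.Flat R S] (hgi : FlatCA.GeomIntegralFibres R S)
    (M : Type u) [AddCommGroup M] [Module S M] [Module.Finite S M] {ν : Type} [Finite ν] (f : ν → R) (r : ν → ℕ)
    (hfree : ∀ (j : ν) (p : Ideal R) [p.IsPrime] [(p.map (algebraMap R S)).IsPrime], f j ∉ p →
      Module.Free (Localization.AtPrime (p.map (algebraMap R S))) (LocalizedModule (p.map (algebraMap R S)).primeCompl M) ∧
      Module.rank (Localization.AtPrime (p.map (algebraMap R S))) (LocalizedModule (p.map (algebraMap R S)).primeCompl M) = r j) :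
    ∃ I : Ideal R, I.FG ∧ I.radical = (Ideal.span (Set.range f)).radical ∧
      ∀ (R' : Type u) [CommRing R'] [Algebra R R'] (α : R'), α ∈ nonZeroDivisors R' →
        I.map (algebraMap R R') = Ideal.span {α} →
      ∀ (S' M' : Type u) [CommRing S'] [Algebra S S'] [Algebra R' S'] [Algebra R S']
        [IsScalarTower R S S'] [IsScalarTower R R' S'] [Algebra.IsPushout R S R' S']
        [AddCommGroup M'] [Module S' M'] [Module S M'] [IsScalarTower S S' M']
        (φ : M →ₗ[S] M'), IsBaseChange S' φ →
        ∀ (p' : Ideal R') [p'.IsPrime],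
          ∃ (j : ν) (g : S'), g ∉ p'.map (algebraMap R' S') ∧
            Module.Free (Localization.Away g)
              (LocalizedModule (Submonoid.powers g) (M' ⧸ FlatCA.powTorsion S' (algebraMap R' S' α) M')) ∧
            Module.rank (Localization.Away g)
              (LocalizedModule (Submonoid.powers g) (M' ⧸ FlatCA.powTorsion S' (algebraMap R' S' α) M')) = r j := by
  classical
  haveI := Fintype.ofFinite ν
  haveI : Module.Projective R S := RG.Dev.projective_of_geomIntegral hgi
  obtain ⟨σ, hσ'⟩ := Module.projective_def.1 (inferInstance : Module.Projective R S)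
  have hσ : (Finsupp.linearCombination R id).comp σ = LinearMap.id := LinearMap.ext hσ'
  obtain ⟨n, x₀, hx₀⟩ := FittLib.exists_generators S M
  let x : (j : ν) → Fin n ⊕ Fin (r j) → M := fun j => Sum.elim x₀ 0
  have hx : ∀ j, Submodule.span S (Set.range (x j)) = ⊤ := fun j => by
    rw [eq_top_iff, ← hx₀]
    refine Submodule.span_mono ?_
    rintro _ ⟨i, rfl⟩
    exact ⟨Sum.inl i, rfl⟩
  have hdomS : ∀ (p : Ideal R) [p.IsPrime], IsDomain (p.Fiber S) := fun p _ => by
    haveI := RG.Pure.isDomain_baseChange_field hgi p.ResidueField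
    exact (Algebra.TensorProduct.comm R p.ResidueField S).toRingEquiv.injective.isDomain
      (Algebra.TensorProduct.comm R p.ResidueField S).toRingEquiv.toRingHom
  let G : ν → Set R := fun j => {c | ∃ z : Fin n → (Fin n ⊕ Fin (r j)) → S,
    (∀ i, z i ∈ rel S (x j)) ∧ ∃ e, c ∈ coords σ (minor z e)}
  have hfG : ∀ j, f j ∈ (Ideal.span (G j)).radical := fun j => by
    rw [Ideal.radical_eq_sInf, Submodule.mem_sInf]
    rintro p ⟨hle, hp⟩
    by_contra hfp
    haveI := hp
    haveI := map_isPrime (B := S) p (hdomS p)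
    obtain ⟨h1, h2⟩ := hfree j p hfp
    have h3 := (fitting_of_free (Ideal.map (algebraMap R S) p) h1 h2).1
    rw [ideal_eq_minors (x j) (hx j), Fintype.card_sum, Fintype.card_fin, Fintype.card_fin, Nat.add_sub_cancel,
      minors, Ideal.span_le, Set.not_subset] at h3
    obtain ⟨_, ⟨z, e, hz, rfl⟩, hd⟩ := h3
    obtain ⟨c, hc, hcp⟩ := exists_coord_notMem hσ p hd
    exact hcp (hle (Ideal.subset_span ⟨z, hz, e, hc⟩))
  choose N hN using hfG
  choose T hTG hNT using fun j => Submodule.mem_span_finite_of_mem_span (hN j)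
  choose Z hZrel hZmem using fun (j : ν) (c : T j) => hTG j c.2
  let J : ν → Finset R := fun j => Finset.univ.biUnion fun c : T j => Finset.univ.biUnion fun e => coords σ (minor (Z j c) e)
  have hTJ : ∀ j, T j ⊆ J j := fun j c hc => by
    obtain ⟨e, he⟩ := hZmem j ⟨c, hc⟩
    simp only [J, Finset.mem_biUnion, Finset.mem_univ, true_and]
    exact ⟨⟨c, hc⟩, e, he⟩
  let E : Finset R := Finset.univ.biUnion fun j => (J j).image fun c => f j * c
  refine ⟨Ideal.span (E : Set R), ⟨E, rfl⟩, ?_, ?_⟩
  · refine le_antisymm (Ideal.radical_mono (Ideal.span_le.2 fun q hq => ?_))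
      (Ideal.radical_le_radical_iff.2 (Ideal.span_le.2 ?_))
    · simp only [E, Finset.coe_biUnion, Set.mem_iUnion, Finset.coe_image, Set.mem_image] at hq
      obtain ⟨j, -, c, -, rfl⟩ := hq
      exact Ideal.mul_mem_right _ _ (Ideal.subset_span ⟨j, rfl⟩)
    · rintro _ ⟨j, rfl⟩
      refine ⟨N j + 1, ?_⟩
      rw [pow_succ]
      have hTE : Ideal.span {f j} * Ideal.span (T j : Set R) ≤ Ideal.span (E : Set R) := by
        rw [Ideal.span_mul_span', Ideal.span_le]
        rintro _ ⟨a, rfl : a = f j, c, hc, rfl⟩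
        exact Ideal.subset_span (Finset.mem_biUnion.2 ⟨j, Finset.mem_univ _, Finset.mem_image.2 ⟨c, hTJ j hc, rfl⟩⟩)
      rw [mul_comm]
      exact hTE (Ideal.mul_mem_mul (Ideal.mem_span_singleton_self _) (hNT j))
  intro R' _ _ α hα hI S' M' _ _ _ _ _ _ _ _ _ _ _ φ hφ p' _
  have hfc : ∀ j, ∀ c ∈ J j, ∃ y : R', y * α = algebraMap R R' (f j * c) := fun j c hc =>
    Ideal.mem_span_singleton'.1 (hI.le (Ideal.mem_map_of_mem _ (Ideal.subset_span
      (Finset.mem_biUnion.2 ⟨j, Finset.mem_univ _, Finset.mem_image.2 ⟨c, hc, rfl⟩⟩))))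
  obtain ⟨j, c, hcJ, y, hy, hyp⟩ : ∃ j, ∃ c ∈ J j, ∃ y : R', y * α = algebraMap R R' (f j * c) ∧ y ∉ p' := by
    by_contra! hall
    have key : ∀ w ∈ (Ideal.span (E : Set R)).map (algebraMap R R'), ∃ y ∈ p', y * α = w := by
      intro w hw
      induction hw using Submodule.span_induction with
      | mem w hw =>
        obtain ⟨q, hq, rfl⟩ := hw
        induction hq using Submodule.span_induction with
        | mem q hq =>
          simp only [E, Finset.coe_biUnion, Set.mem_iUnion, Finset.coe_image, Set.mem_image] at hq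
          obtain ⟨j, -, c, hc, rfl⟩ := hq
          obtain ⟨y, hy⟩ := hfc j c hc
          exact ⟨y, hall j c hc y hy, hy⟩
        | zero => exact ⟨0, zero_mem _, by simp⟩
        | add u v _ _ hu hv =>
          obtain ⟨y₁, hy₁, e₁⟩ := hu
          obtain ⟨y₂, hy₂, e₂⟩ := hv
          exact ⟨y₁ + y₂, add_mem hy₁ hy₂, by rw [add_mul, e₁, e₂, map_add]⟩
        | smul b u _ hu =>
          obtain ⟨y₁, hy₁, e₁⟩ := hu
          exact ⟨algebraMap R R' b * y₁, Ideal.mul_mem_left _ _ hy₁, by rw [mul_assoc, e₁, smul_eq_mul, map_mul]⟩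
      | zero => exact ⟨0, zero_mem _, by simp⟩
      | add u v _ _ hu hv =>
        obtain ⟨y₁, hy₁, e₁⟩ := hu
        obtain ⟨y₂, hy₂, e₂⟩ := hv
        exact ⟨y₁ + y₂, add_mem hy₁ hy₂, by rw [add_mul, e₁, e₂]⟩
      | smul b u _ hu =>
        obtain ⟨y₁, hy₁, e₁⟩ := hu
        exact ⟨b * y₁, Ideal.mul_mem_left _ _ hy₁, by rw [mul_assoc, e₁, smul_eq_mul]⟩
    obtain ⟨y, hy, e⟩ := key α (hI.ge (Ideal.mem_span_singleton_self α))
    have h1 : y = 1 := (mul_cancel_right_mem_nonZeroDivisors hα).1 (e.trans (one_mul _).symm)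
    exact (inferInstance : p'.IsPrime).ne_top ((Ideal.eq_top_iff_one _).2 (h1 ▸ hy))
  obtain ⟨c₀, -, hc₀⟩ := Finset.mem_biUnion.1 hcJ
  obtain ⟨e₀, -, he₀⟩ := Finset.mem_biUnion.1 hc₀
  have hq : ∀ e, ∃ U : S', algebraMap R S' (f j) * algebraMap S S' (minor (Z j c₀) e) = algebraMap R' S' α * U := fun e =>
    exists_quotient σ hσ (f j) _ fun c' hc' => hfc j c' (Finset.mem_biUnion.2 ⟨c₀, Finset.mem_univ _,
      Finset.mem_biUnion.2 ⟨e, Finset.mem_univ _, hc'⟩⟩)
  choose U hU using hq
  refine ⟨j, free_near_fibre hα p' (RG.Pure.isDomain_fiber_baseChange hgi R' S' p') φ hφ (n := n) (r := r j)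
    (by rw [Fintype.card_sum, Fintype.card_fin, Fintype.card_fin]) (x j) (hx j)
    hy hyp ?_ (Z j c₀) (hZrel j c₀) U hU e₀ (quotient_notMem σ hα (hU e₀) he₀ hy p' hyp)⟩
  intro d hd hr
  have hd' : d ∈ Fitt.ideal S M (r j - 1) := by
    rw [ideal_eq_minors (x j) (hx j), Fintype.card_sum, Fintype.card_fin, Fintype.card_fin]
    rwa [show n + r j - (r j - 1) = n + 1 by omega]
  let A : Ideal R := Ideal.torsionOf R S d
  suffices f j ∈ A.radical by
    obtain ⟨k, hk⟩ := this
    exact ⟨k, by rw [← map_pow, ← Algebra.smul_def]; exact (Ideal.mem_torsionOf_iff _ _).1 hk⟩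
  rw [Ideal.radical_eq_sInf, Submodule.mem_sInf]
  rintro p ⟨hle, hp⟩
  by_contra hfp
  haveI := hp
  haveI := hdomS p
  haveI := map_isPrime (B := S) p (hdomS p)
  obtain ⟨h1, h2⟩ := hfree j p hfp
  obtain ⟨s, hs, hsd⟩ := (fitting_of_free (Ideal.map (algebraMap R S) p) h1 h2).2 (r j - 1) (by omega) d hd'
  obtain ⟨t, ht, htd⟩ := exists_notMem_mul_eq_zero σ hσ p d s hs hsd
  exact ht (hle ((Ideal.mem_torsionOf_iff _ _).2 (by rw [Algebra.smul_def]; exact htd)))

omit R' S' in
/-- the affine blow-up statement -/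
theorem exists_ideal [Algebra.FinitePresentation R S] [Module.Flat R S] (hgi : FlatCA.GeomIntegralFibres R S)
    (f : R) (r : ℕ) (M : Type u) [AddCommGroup M] [Module S M] [Module.Finite S M]
    (hfree : ∀ (p : Ideal R) [p.IsPrime] [(p.map (algebraMap R S)).IsPrime], f ∉ p →
      Module.Free (Localization.AtPrime (p.map (algebraMap R S))) (LocalizedModule (p.map (algebraMap R S)).primeCompl M) ∧
      Module.rank (Localization.AtPrime (p.map (algebraMap R S))) (LocalizedModule (p.map (algebraMap R S)).primeCompl M) = r) :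
    ∃ I : Ideal R, I.FG ∧ I.radical = (Ideal.span {f}).radical ∧ ∀ a ∈ I,
      ∀ (S' M' : Type u) [CommRing S'] [Algebra S S'] [Algebra (BlowUp.affineAlgebra R I a) S'] [Algebra R S']
        [IsScalarTower R S S'] [IsScalarTower R (BlowUp.affineAlgebra R I a) S']
        [Algebra.IsPushout R S (BlowUp.affineAlgebra R I a) S']
        [AddCommGroup M'] [Module S' M'] [Module S M'] [IsScalarTower S S' M']
        (φ : M →ₗ[S] M'), IsBaseChange S' φ →
        ∀ (p' : Ideal (BlowUp.affineAlgebra R I a)) [p'.IsPrime],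
          ∃ g : S', g ∉ p'.map (algebraMap (BlowUp.affineAlgebra R I a) S') ∧
            Module.Free (Localization.Away g)
              (LocalizedModule (Submonoid.powers g) (M' ⧸ FlatCA.powTorsion S' (algebraMap R S' a) M')) ∧
            Module.rank (Localization.Away g)
              (LocalizedModule (Submonoid.powers g) (M' ⧸ FlatCA.powTorsion S' (algebraMap R S' a) M')) = r := by
  obtain ⟨I, hfg, hrad, hI⟩ := exists_ideal_gen hgi M (ν := Unit) (fun _ => f) (fun _ => r) fun _ p _ _ h => hfree p h
  refine ⟨I, hfg, by rw [hrad, Set.range_const], fun a ha S' M' _ _ _ _ _ _ _ _ _ _ _ φ hφ p' _ => ?_⟩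
  obtain ⟨-, g, h1, h2⟩ := hI (BlowUp.affineAlgebra R I a) (algebraMap R _ a)
    (Fitting.nonZeroDivisor_affineAlgebra I a _ AlgEquiv.refl) (Fitting.map_eq_span I a _ AlgEquiv.refl ha) S' M' φ hφ p'
  rw [← IsScalarTower.algebraMap_apply] at h2
  exact ⟨g, h1, h2⟩

end Groth.Agent.BlowFree
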