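import Groth.Agent.RG.Dev.GenericFree
import Groth.Agent.FittLib.BaseChange
import Groth.Prelude.Def_FlatCA
import Mathlib

/-!
# Contents and Fitting ideals near the generic points of geometrically integral fibres
-/

set_option autoImplicit false
set_option linter.style.haveILetI false

universe u

open TensorProduct

namespace Groth.Agent.BlowFree

open FittLib

/-- flat with domain fibre: the extension of the prime is prime -/
theorem mk_mem_map {A B : Type u} [CommRing A] [CommRing B] [Algebra A B] [Module.Flat A B] (p : Ideal A) [p.IsPrime]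
    (x : B) (hx : ((1 : p.ResidueField) ⊗ₜ[A] x : p.Fiber B) = 0) : x ∈ p.map (algebraMap A B) := by
  let l : (A ⧸ p) →ₗ[A] p.ResidueField := (IsScalarTower.toAlgHom A (A ⧸ p) p.ResidueField).toLinearMap
  have hl : Function.Injective l := Ideal.injective_algebraMap_quotient_residueField p
  have h1 : (1 : A ⧸ p) ⊗ₜ[A] x = 0 := Module.Flat.rTensor_preserves_injective_linearMap (M := B) l hl (by
    rw [LinearMap.rTensor_tmul, map_zero]
    simp [l]
    exact hx)
  have h2 := congrArg (TensorProduct.quotTensorEquivQuotSMul B p) h1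
  rw [map_zero] at h2
  have h3 : x ∈ p • (⊤ : Submodule A B) := by
    rw [← Submodule.Quotient.mk_eq_zero]
    rwa [show (1 : A ⧸ p) = Ideal.Quotient.mk p 1 from rfl, TensorProduct.quotTensorEquivQuotSMul_mk_tmul, one_smul] at h2
  rw [Ideal.smul_top_eq_map] at h3
  exact h3

theorem map_isPrime {A B : Type u} [CommRing A] [CommRing B] [Algebra A B] [Module.Flat A B] (p : Ideal A) [p.IsPrime]
    (hd : IsDomain (p.Fiber B)) : (p.map (algebraMap A B)).IsPrime := by
  let j : B →+* p.Fiber B := (Algebra.TensorProduct.includeRight : B →ₐ[A] p.Fiber B).toRingHom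
  have hj : ∀ x, x ∈ p.map (algebraMap A B) ↔ j x = 0 := by
    refine fun x => ⟨fun hx => ?_, mk_mem_map p x⟩
    have hle : p.map (algebraMap A B) ≤ RingHom.ker j := Ideal.map_le_iff_le_comap.2 fun a ha => by
      rw [Ideal.mem_comap, RingHom.mem_ker]
      show (Algebra.TensorProduct.includeRight : B →ₐ[A] p.Fiber B) (algebraMap A B a) = 0
      rw [AlgHom.commutes, IsScalarTower.algebraMap_apply A p.ResidueField (p.Fiber B),
        Ideal.algebraMap_residueField_eq_zero.2 ha, map_zero]
    exact hle hx
  rw [show p.map (algebraMap A B) = RingHom.ker j from Ideal.ext fun x => (hj x).trans RingHom.mem_ker.symm]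
  exact RingHom.ker_isPrime j

variable {R S : Type u} [CommRing R] [CommRing S] [Algebra R S]

/-- coefficients in a dual basis -/
noncomputable def coords [DecidableEq R] (σ : S →ₗ[R] S →₀ R) (x : S) : Finset R := (σ x).support.image (σ x)

theorem sum_coords {σ : S →ₗ[R] S →₀ R} (hσ : (Finsupp.linearCombination R id).comp σ = LinearMap.id) (x : S) :
    ∑ i ∈ (σ x).support, σ x i • i = x := by
  have := LinearMap.congr_fun hσ x
  simpa [Finsupp.linearCombination_apply, Finsupp.sum] using this

theorem mem_coords [DecidableEq R] {σ : S →ₗ[R] S →₀ R} {x : S} {c : R} :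
    c ∈ coords σ x ↔ ∃ i ∈ (σ x).support, σ x i = c := by simp [coords]

theorem exists_coord_notMem [DecidableEq R] {σ : S →ₗ[R] S →₀ R}
    (hσ : (Finsupp.linearCombination R id).comp σ = LinearMap.id) (p : Ideal R) {x : S}
    (hx : x ∉ p.map (algebraMap R S)) : ∃ c ∈ coords σ x, c ∉ p := by
  by_contra! h
  apply hx
  rw [← sum_coords hσ x]
  refine Ideal.sum_mem _ fun i hi => ?_
  rw [Algebra.smul_def]
  exact Ideal.mul_mem_right _ _ (Ideal.mem_map_of_mem _ (h _ (mem_coords.2 ⟨i, hi, rfl⟩)))

/-- an element killed by something missing the generic point of the fibre over `p` vanishes near `p` -/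
theorem exists_notMem_mul_eq_zero [Module.Flat R S] (σ : S →ₗ[R] S →₀ R)
    (hσ : (Finsupp.linearCombination R id).comp σ = LinearMap.id) (p : Ideal R) [p.IsPrime] [IsDomain (p.Fiber S)]
    (x s : S) (hs : s ∉ p.map (algebraMap R S)) (h : s * x = 0) : ∃ t ∉ p, algebraMap R S t * x = 0 := by
  classical
  let C : Ideal R := Ideal.span (coords σ x : Set R)
  haveI : Module.Finite R C := Module.Finite.iff_fg.2 ⟨coords σ x, rfl⟩
  have hmem : ∀ i : (σ x).support, σ x i ∈ C := fun i =>
    Ideal.subset_span (mem_coords.2 ⟨i, i.2, rfl⟩)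
  suffices hns : (⟨p, inferInstance⟩ : PrimeSpectrum R) ∉ Module.support R C by
    rw [Module.support_eq_zeroLocus, PrimeSpectrum.mem_zeroLocus] at hns
    obtain ⟨t, ht, htp⟩ := Set.not_subset.1 hns
    refine ⟨t, htp, ?_⟩
    rw [← sum_coords hσ x, Finset.mul_sum]
    refine Finset.sum_eq_zero fun i hi => ?_
    have h0 := congrArg Subtype.val (Module.mem_annihilator.1 ht ⟨_, hmem ⟨i, hi⟩⟩)
    simp only [SetLike.val_smul, smul_eq_mul, ZeroMemClass.coe_zero] at h0
    rw [← Algebra.smul_def, smul_smul, h0, zero_smul]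
  rw [Module.mem_support_iff_nontrivial_residueField_tensorProduct]
  intro hnt
  obtain ⟨w, hw⟩ := exists_ne (0 : p.ResidueField ⊗[R] C)
  apply hw
  rw [← Module.forall_dual_apply_eq_zero_iff p.ResidueField]
  intro F
  let ψ : C →ₗ[R] p.ResidueField := (F.restrictScalars R).comp (TensorProduct.mk R p.ResidueField C 1)
  let z : C ⊗[R] S := ∑ i : (σ x).support, (⟨σ x i, hmem i⟩ : C) ⊗ₜ[R] (i : S)
  let ι : C ⊗[R] S →ₗ[R] S := (TensorProduct.lid R S).toLinearMap.comp ((Submodule.subtype C).rTensor S)
  have hι : Function.Injective ι := by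
    exact (TensorProduct.lid R S).injective.comp
      (Module.Flat.rTensor_preserves_injective_linearMap _ (Submodule.injective_subtype _))
  let ms : S →ₗ[R] S := LinearMap.mulLeft R s
  have hz : ms.lTensor C z = 0 := hι (by
    rw [map_zero]
    show ι (ms.lTensor C z) = 0
    rw [← h, ← sum_coords hσ x, Finset.mul_sum, ← Finset.sum_coe_sort]
    simp [z, ι, ms, map_sum])
  have hΨ : ψ.rTensor S z = 0 := by
    have h1 := congrArg (ψ.rTensor S) hz
    rw [map_zero, ← LinearMap.comp_apply, LinearMap.rTensor_comp_lTensor, ← LinearMap.lTensor_comp_rTensor,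
      LinearMap.comp_apply] at h1
    have h2 : ∀ y : p.ResidueField ⊗[R] S, ms.lTensor p.ResidueField y = ((1 : p.ResidueField) ⊗ₜ[R] s) * y := by
      intro y
      induction y using TensorProduct.induction_on with
      | zero => simp
      | tmul k b => simp [ms]
      | add a b ha hb => rw [map_add, ha, hb, mul_add]
    rw [h2] at h1
    exact (mul_eq_zero.1 (show ((1 : p.ResidueField) ⊗ₜ[R] s : p.Fiber S) * (ψ.rTensor S z : p.Fiber S) = 0 from h1)).resolve_left
      fun h0 => hs (mk_mem_map p s h0)
  have hψ : ∀ j, ψ ⟨σ x j, by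
      by_cases hj : j ∈ (σ x).support
      · exact hmem ⟨j, hj⟩
      · rw [Finsupp.notMem_support_iff.1 hj]; exact zero_mem _⟩ = 0 := by
    intro j
    have h1 := congrArg (fun y => TensorProduct.rid R p.ResidueField
      (((Finsupp.lapply j).comp σ).lTensor p.ResidueField y)) hΨ
    simp only [map_zero] at h1
    rw [← h1]
    simp only [z, map_sum, LinearMap.rTensor_tmul, LinearMap.lTensor_tmul, TensorProduct.rid_tmul,
      LinearMap.comp_apply, Finsupp.lapply_apply]
    rw [← Finset.sum_congr rfl fun i _ => map_smul ψ _ _, ← map_sum]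
    refine congrArg ψ (Subtype.ext ?_)
    rw [Submodule.coe_sum]
    show σ x j = _
    refine ((DFunLike.congr_fun (congrArg σ (sum_coords hσ x)) j).symm).trans ?_
    rw [map_sum, Finsupp.finsetSum_apply, ← Finset.sum_coe_sort]
    refine Finset.sum_congr rfl fun i _ => ?_
    simp [mul_comm]
  have hψ0 : ψ = 0 := by
    refine LinearMap.ext fun ⟨c, hc⟩ => ?_
    show ψ ⟨c, hc⟩ = 0
    induction hc using Submodule.span_induction with
    | mem c hc =>
      obtain ⟨i, -, rfl⟩ := mem_coords.1 hc
      exact hψ i
    | zero => exact map_zero ψ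
    | add a b ha hb iha ihb => rw [← add_zero (0 : p.ResidueField)]; nth_rw 1 [← iha]; rw [← ihb, ← map_add]; rfl
    | smul r a ha ih => rw [← smul_zero r, ← ih, ← map_smul]; rfl
  induction w using TensorProduct.induction_on with
  | zero => exact map_zero F
  | tmul k c =>
    rw [show k ⊗ₜ[R] c = k • ((1 : p.ResidueField) ⊗ₜ[R] c) by rw [smul_tmul', smul_eq_mul, mul_one], map_smul,
      show F ((1 : p.ResidueField) ⊗ₜ[R] c) = 0 from LinearMap.congr_fun hψ0 c, smul_zero]
  | add a b ha hb =>
    clear hw
    rw [map_add]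
    have key : ∀ y : p.ResidueField ⊗[R] C, F y = 0 := fun y => by
      induction y using TensorProduct.induction_on with
      | zero => exact map_zero F
      | tmul k c =>
        rw [show k ⊗ₜ[R] c = k • ((1 : p.ResidueField) ⊗ₜ[R] c) by rw [smul_tmul', smul_eq_mul, mul_one], map_smul,
          show F ((1 : p.ResidueField) ⊗ₜ[R] c) = 0 from LinearMap.congr_fun hψ0 c, smul_zero]
      | add a b ha hb => rw [map_add, ha, hb, add_zero]
    rw [key, key, add_zero]

/-- Fitting ideals at a prime where the module is free of rank `r` -/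
theorem fitting_of_free {M : Type u} [AddCommGroup M] [Module S M] [Module.Finite S M] (q : Ideal S) [q.IsPrime] {r : ℕ}
    (hfree : Module.Free (Localization.AtPrime q) (LocalizedModule q.primeCompl M))
    (hrank : Module.rank (Localization.AtPrime q) (LocalizedModule q.primeCompl M) = r) :
    ¬ Fitt.ideal S M r ≤ q ∧ ∀ k < r, ∀ x ∈ Fitt.ideal S M k, ∃ s ∉ q, s * x = 0 := by
  haveI : Module.Finite (Localization.AtPrime q) (LocalizedModule q.primeCompl M) :=
    Module.Finite.of_isLocalizedModule q.primeCompl (LocalizedModule.mkLinearMap q.primeCompl M)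
  let b := Module.finBasisOfFinrankEq (Localization.AtPrime q) _ (Module.finrank_eq_of_rank_eq hrank)
  have hloc : ∀ k, (Fitt.ideal S M k).map (algebraMap S (Localization.AtPrime q)) =
      minors (Localization.AtPrime q) b (r - k) := fun k => by
    have h1 := ideal_localizedModule (R := S) (M := M) q.primeCompl k
    rw [ideal_eq_minors b b.span_eq k, Fintype.card_fin] at h1
    exact h1.symm
  refine ⟨?_, fun k hk x hx => ?_⟩
  · refine not_le_of_map_localization_eq_top le_rfl ?_
    exact (hloc r).trans (minors_eq_top_of_eq_zero _ (Nat.sub_self r))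
  · have h1 : algebraMap S (Localization.AtPrime q) x = 0 := by
      have h2 := (hloc k).le (Ideal.mem_map_of_mem _ hx)
      have h3 : minors (Localization.AtPrime q) b (r - k) ≤ ⊥ := by
        refine minors_le fun z e hz => Ideal.mem_bot.2 ?_
        have hz0 : ∀ j, z j = 0 := fun j => funext fun i =>
          Fintype.linearIndependent_iff.1 b.linearIndependent (z j) (mem_rel.1 (hz j)) i
        rw [minor]
        exact Matrix.det_eq_zero_of_row_eq_zero (⟨0, by omega⟩ : Fin (r - k)) fun j => by simp [hz0]
      exact Ideal.mem_bot.1 (h3 h2)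
    obtain ⟨⟨s, hs⟩, hsx⟩ := (IsLocalization.map_eq_zero_iff q.primeCompl (Localization.AtPrime q) x).1 h1
    exact ⟨s, hs, hsx⟩

/-- padding the extra relation -/
theorem minor_cons {ι : Type*} {m : ℕ} (z : Fin m → ι → S) (e : Fin m → ι) (t : ι → S)
    (ht : ∀ a, t (e a) = 0) (j : ι) : minor (Fin.cons t z) (Fin.cons j e) = t j * minor z e := by
  rw [minor, Matrix.det_succ_column _ 0, Fin.sum_univ_succ, Finset.sum_eq_zero fun a _ => ?_]
  · simp [minor, Matrix.submatrix, Fin.succAbove_zero]
  · simp [ht a]

end Groth.Agent.BlowFree
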