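import Groth.Agent.BlowFree.Blow
import Groth.Agent.FlatBlowUp.Module
import Groth.Agent.FlatRes.FibreFree
import Groth.Agent.FittLib.Sheaf
import Groth.Agent.LocFree.Props
import Groth.Agent.FlatModB.Basic
import Mathlib

/-!
# A module flat at the generic points of geometrically integral fibres is free near them
-/

set_option autoImplicit false
set_option linter.style.haveILetI false
set_option backward.isDefEq.respectTransparency false
set_option backward.isDefEq.respectTransparency.types false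

universe u

open TensorProduct

namespace Groth.Agent.BlowFree

/-- freeness at a prime from freeness on a basic open around it -/
theorem free_atPrime_of_free_away {S : Type u} [CommRing S] {M : Type u} [AddCommGroup M] [Module S M] (s : S)
    (Ss : Type u) [CommRing Ss] [Algebra S Ss] [IsLocalization.Away s Ss]
    {N : Type u} [AddCommGroup N] [Module S N] [Module Ss N] [IsScalarTower S Ss N]
    (g : M →ₗ[S] N) [IsLocalizedModule (Submonoid.powers s) g] [Module.Free Ss N] [Module.Finite Ss N]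
    (q : Ideal S) [q.IsPrime] (hs : s ∉ q) :
    Module.Free (Localization.AtPrime q) (LocalizedModule q.primeCompl M) ∧
      Module.rank (Localization.AtPrime q) (LocalizedModule q.primeCompl M) = Module.finrank Ss N := by
  let L := LocalizedModule q.primeCompl M
  let A := Localization.AtPrime q
  have hu : IsUnit (algebraMap S A s) := IsLocalization.map_units A (⟨s, hs⟩ : q.primeCompl)
  let ρ : Ss →+* A := IsLocalization.Away.lift s (g := algebraMap S A) hu
  letI : Algebra Ss A := ρ.toAlgebra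
  haveI : IsScalarTower S Ss A := IsScalarTower.of_algebraMap_eq fun x => (IsLocalization.Away.lift_eq s hu x).symm
  letI : Module Ss L := Module.compHom L ρ
  haveI : IsScalarTower S Ss L := IsScalarTower.of_algebraMap_smul fun r l => by
    show ρ (algebraMap S Ss r) • l = r • l
    rw [show ρ (algebraMap S Ss r) = algebraMap S A r from IsLocalization.Away.lift_eq s hu r, algebraMap_smul]
  haveI : IsScalarTower Ss A L := IsScalarTower.of_algebraMap_smul fun _ _ => rfl
  let mk := LocalizedModule.mkLinearMap q.primeCompl M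
  have hunit : ∀ t : Submonoid.powers s, IsUnit (algebraMap S (Module.End S L) t) := fun t => by
    obtain ⟨k, hk⟩ := t.2
    exact IsLocalizedModule.map_units mk (⟨(t : S), by rw [← hk]; exact Submonoid.pow_mem _ hs k⟩ : q.primeCompl)
  let h : N →ₗ[Ss] L := (IsLocalizedModule.lift (Submonoid.powers s) g mk hunit).extendScalarsOfIsLocalization (Submonoid.powers s) Ss
  have hg : IsBaseChange Ss g := (isLocalizedModule_iff_isBaseChange (Submonoid.powers s) Ss g).1 inferInstance
  have hh : IsBaseChange A h := IsBaseChange.of_comp hg (by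
    rw [show (h.restrictScalars S).comp g = mk from LinearMap.ext fun m => IsLocalizedModule.lift_apply (Submonoid.powers s) g mk hunit m]
    exact (isLocalizedModule_iff_isBaseChange q.primeCompl A mk).1 inferInstance)
  let b := Module.Free.chooseBasis Ss N
  let b' := (Algebra.TensorProduct.basis A b).map hh.equiv
  refine ⟨Module.Free.of_basis b', ?_⟩
  haveI : Nontrivial Ss := ρ.domain_nontrivial
  rw [rank_eq_card_basis b', Module.finrank_eq_card_basis b]

/-- an element missing the generic point of a fibre misses those of the nearby fibres -/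
theorem exists_coord_nbhd {R S : Type u} [CommRing R] [CommRing S] [Algebra R S] [Module.Projective R S] (p : Ideal R)
    {s : S} (hs : s ∉ p.map (algebraMap R S)) :
    ∃ c ∉ p, ∀ p' : Ideal R, c ∉ p' → s ∉ p'.map (algebraMap R S) := by
  classical
  obtain ⟨σ, hσ'⟩ := Module.projective_def.1 (inferInstance : Module.Projective R S)
  have hσ : (Finsupp.linearCombination R id).comp σ = LinearMap.id := LinearMap.ext hσ'
  obtain ⟨c, hc, hcp⟩ := exists_coord_notMem hσ p hs
  obtain ⟨i, -, rfl⟩ := mem_coords.1 hc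
  refine ⟨_, hcp, fun p' hp' hmem => hp' ?_⟩
  rw [← Submodule.restrictScalars_mem R, ← Ideal.smul_top_eq_map] at hmem
  refine Submodule.smul_induction_on (p := fun m => σ m i ∈ p') hmem (fun b hb m _ => ?_) fun u v hu hv => ?_
  · rw [map_smul, Finsupp.smul_apply, smul_eq_mul]; exact Ideal.mul_mem_right _ _ hb
  · rw [map_add, Finsupp.add_apply]; exact add_mem hu hv

section Scheme

open AlgebraicGeometry CategoryTheory Limits TopologicalSpace Groth.Agent.QC

variable {X Y : Scheme.{u}} (f : X ⟶ Y)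

/-- geometrically integral fibres on the rings of an affine piece -/
theorem geomIntegralFibres_appLE [GeometricallyIntegral f] [IsAffineHom f] {W : Y.Opens} (hW : IsAffineOpen W) :
    letI : Algebra Γ(Y, W) Γ(X, f ⁻¹ᵁ W) := (f.appLE W (f ⁻¹ᵁ W) le_rfl).hom.toAlgebra
    FlatCA.GeomIntegralFibres Γ(Y, W) Γ(X, f ⁻¹ᵁ W) := by
  let hV : IsAffineOpen (f ⁻¹ᵁ W) := hW.preimage f
  exact MorphismProperty.of_isPullback (P := @GeometricallyIntegral)
    (IsOpenImmersion.isPullback _ hV.fromSpec hW.fromSpec f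
      (hW.SpecMap_appLE_fromSpec f hV le_rfl).symm (by rw [hW.opensRange_fromSpec, hV.opensRange_fromSpec])).flip
    ‹GeometricallyIntegral f›

variable [IsAffineHom f] [LocallyOfFinitePresentation f] [Flat f] [GeometricallyIntegral f]

/-- **Free near the generic point of a fibre over `U`.** -/
theorem exists_free_nbhd (U : Y.Opens) (F : X.Modules) (hqc : Coh.IsQCoh F)
    (hfpD : ∀ D : X.Opens, IsAffineOpen D → D ≤ f ⁻¹ᵁ U → Module.FinitePresentation Γ(X, D) Γ(F, D))
    (hflU : ∀ x : X, f.base x ∈ U → closure ({f.asFiber x} : Set (f.fiber (f.base x))) = Set.univ → FlatMod.IsFlatOverAt f F x)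
    {W : Y.Opens} (hW : IsAffineOpen W) (p : PrimeSpectrum Γ(Y, W)) (hp : hW.fromSpec p ∈ U) :
    letI : Algebra Γ(Y, W) Γ(X, f ⁻¹ᵁ W) := (f.appLE W (f ⁻¹ᵁ W) le_rfl).hom.toAlgebra
    ∃ (c : Γ(Y, W)) (r : ℕ), c ∉ p.asIdeal ∧ ∀ (p' : Ideal Γ(Y, W)) [p'.IsPrime]
      [(p'.map (algebraMap Γ(Y, W) Γ(X, f ⁻¹ᵁ W))).IsPrime], c ∉ p' →
      Module.Free (Localization.AtPrime (p'.map (algebraMap Γ(Y, W) Γ(X, f ⁻¹ᵁ W))))
        (LocalizedModule (p'.map (algebraMap Γ(Y, W) Γ(X, f ⁻¹ᵁ W))).primeCompl Γ(F, f ⁻¹ᵁ W)) ∧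
      Module.rank (Localization.AtPrime (p'.map (algebraMap Γ(Y, W) Γ(X, f ⁻¹ᵁ W))))
        (LocalizedModule (p'.map (algebraMap Γ(Y, W) Γ(X, f ⁻¹ᵁ W))).primeCompl Γ(F, f ⁻¹ᵁ W)) = r := by
  letI algRS : Algebra Γ(Y, W) Γ(X, f ⁻¹ᵁ W) := (f.appLE W (f ⁻¹ᵁ W) le_rfl).hom.toAlgebra
  let R := Γ(Y, W)
  let S := Γ(X, f ⁻¹ᵁ W)
  have hV : IsAffineOpen (f ⁻¹ᵁ W) := hW.preimage f
  have hgi : FlatCA.GeomIntegralFibres R S := geomIntegralFibres_appLE f hW
  haveI : Algebra.FinitePresentation R S :=
    HasRingHomProperty.appLE @LocallyOfFinitePresentation f inferInstance ⟨W, hW⟩ ⟨f ⁻¹ᵁ W, hV⟩ le_rfl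
  haveI : Module.Flat R S := f.flat_appLE hW hV le_rfl
  haveI : Module.Projective R S := RG.Dev.projective_of_geomIntegral hgi
  let P := p.asIdeal
  have hd : IsDomain (P.Fiber S) := by
    haveI := RG.Pure.isDomain_baseChange_field hgi P.ResidueField
    exact (Algebra.TensorProduct.comm R P.ResidueField S).toRingEquiv.injective.isDomain
      (Algebra.TensorProduct.comm R P.ResidueField S).toRingEquiv.toRingHom
  let q := P.map (algebraMap R S)
  haveI hq : q.IsPrime := map_isPrime P hd
  have hqP : q.comap (algebraMap R S) = P := by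
    refine le_antisymm (fun a ha => ?_) Ideal.le_comap_map
    by_contra hn
    have h1 : P.map (algebraMap R S) ≤
        RingHom.ker (Algebra.TensorProduct.includeRight : S →ₐ[R] P.Fiber S).toRingHom :=
      Ideal.map_le_iff_le_comap.2 fun b hb => by
        rw [Ideal.mem_comap, RingHom.mem_ker]
        show (Algebra.TensorProduct.includeRight : S →ₐ[R] P.Fiber S) (algebraMap R S b) = 0
        rw [AlgHom.commutes, IsScalarTower.algebraMap_apply R P.ResidueField (P.Fiber S),
          Ideal.algebraMap_residueField_eq_zero.2 hb, map_zero]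
    have h2 : (Algebra.TensorProduct.includeRight : S →ₐ[R] P.Fiber S) (algebraMap R S a) = 0 := h1 ha
    rw [AlgHom.commutes, IsScalarTower.algebraMap_apply R P.ResidueField (P.Fiber S)] at h2
    have h3 : algebraMap R P.ResidueField a ≠ 0 := fun h0 => hn (Ideal.algebraMap_residueField_eq_zero.1 h0)
    exact ((isUnit_iff_ne_zero.2 h3).map (algebraMap P.ResidueField (P.Fiber S))).ne_zero h2
  let qq : PrimeSpectrum S := ⟨q, hq⟩
  let x : X := hV.fromSpec qq
  have hxV : x ∈ f ⁻¹ᵁ W := hV.range_fromSpec.subset ⟨qq, rfl⟩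
  have hsq : ∀ Q : PrimeSpectrum S, f (hV.fromSpec Q) = hW.fromSpec (Q.comap (algebraMap R S)) := fun Q => by
    have := congr($(hW.SpecMap_appLE_fromSpec f hV (le_refl (f ⁻¹ᵁ W))) Q)
    simp only [Scheme.Hom.comp_apply] at this
    exact this.symm
  have hfx : f x = hW.fromSpec p := by
    rw [hsq qq]
    exact congrArg _ (PrimeSpectrum.ext hqP)
  have hxU : f x ∈ U := hfx ▸ hp
  -- `x` is the generic point of its fibre
  have hgen : closure ({f.asFiber x} : Set (f.fiber (f.base x))) = Set.univ := by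
    rw [Set.eq_univ_iff_forall]
    intro z
    rw [(f.fiberι (f.base x)).isEmbedding.isInducing.closure_eq_preimage_closure_image, Set.mem_preimage,
      Set.image_singleton, Scheme.Hom.fiberι_asFiber, ← specializes_iff_mem_closure]
    set z' := f.fiberι (f.base x) z
    have hz' : f z' = f x := by
      have : z' ∈ Set.range (f.fiberι (f.base x)) := ⟨z, rfl⟩
      rw [Scheme.Hom.range_fiberι] at this
      exact this
    have hzV : z' ∈ f ⁻¹ᵁ W := by
      show f z' ∈ W
      rw [hz']
      exact hxV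
    let Q := hV.primeIdealOf ⟨z', hzV⟩
    have hQ : hV.fromSpec Q = z' := hV.fromSpec_primeIdealOf ⟨z', hzV⟩
    have hQP : Q.comap (algebraMap R S) = p := by
      refine hW.fromSpec.isOpenEmbedding.injective ?_
      rw [← hsq, hQ, hz', hfx]
    have hle : qq ⤳ Q := (PrimeSpectrum.le_iff_specializes qq Q).1 (Ideal.map_le_iff_le_comap.2 (congrArg PrimeSpectrum.asIdeal hQP).ge)
    have := hle.map hV.fromSpec.continuous
    rwa [hQ] at this
  -- the stalk is free
  obtain ⟨s₀, hs₀le, hxs₀⟩ := hV.exists_basicOpen_le (V := f ⁻¹ᵁ U) ⟨x, hxU⟩ hxV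
  let D := X.basicOpen s₀
  have hD : IsAffineOpen D := hV.basicOpen s₀
  haveI := hfpD D hD hs₀le
  have hflat := (FlatModB.isFlatOverAt_iff f F x hW hxV).1 (hflU x hxU hgen)
  letI := FlatModB.stalkModule f F x W hxV
  let A := X.presheaf.stalk x
  let N := F.presheaf.stalk x
  letI algDA : Algebra Γ(X, D) A := (X.presheaf.germ D x hxs₀).hom.toAlgebra
  haveI : IsLocalization.AtPrime A (hD.primeIdealOf ⟨x, hxs₀⟩).asIdeal := hD.isLocalization_stalk ⟨x, hxs₀⟩
  letI algSA : Algebra S A := (X.presheaf.germ (f ⁻¹ᵁ W) x hxV).hom.toAlgebra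
  haveI : IsLocalization.AtPrime A (hV.primeIdealOf ⟨x, hxV⟩).asIdeal := hV.isLocalization_stalk ⟨x, hxV⟩
  letI algRA : Algebra R A := ((algebraMap S A).comp (algebraMap R S)).toAlgebra
  haveI : IsScalarTower R S A := IsScalarTower.of_algebraMap_eq fun _ => rfl
  letI modDN := Module.compHom N (X.presheaf.germ D x hxs₀).hom
  haveI : IsScalarTower Γ(X, D) A N := IsScalarTower.of_algebraMap_smul fun _ _ => rfl
  haveI : IsScalarTower R A N := IsScalarTower.of_algebraMap_smul fun a m => by
    change (X.presheaf.germ (f ⁻¹ᵁ W) x hxV).hom ((f.appLE W (f ⁻¹ᵁ W) le_rfl).hom a) • m =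
      ((Y.presheaf.germ W (f x) hxV ≫ f.stalkMap x).hom a) • m
    have he : f.appLE W (f ⁻¹ᵁ W) le_rfl ≫ X.presheaf.germ (f ⁻¹ᵁ W) x hxV =
        Y.presheaf.germ W (f x) hxV ≫ f.stalkMap x := by
      rw [Scheme.Hom.germ_stalkMap, Scheme.Hom.appLE, Category.assoc, X.presheaf.germ_res]
    rw [← CommRingCat.comp_apply, he]
  haveI := hflat
  obtain ⟨g, hg⟩ := LocFree.exists_stalkMap hD hqc hxs₀
  haveI := hg
  haveI : Module.FinitePresentation A N := FinitePresentation.of_isBaseChange g
    ((isLocalizedModule_iff_isBaseChange (hD.primeIdealOf ⟨x, hxs₀⟩).asIdeal.primeCompl A g).1 inferInstance)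
  have hpr : (hV.primeIdealOf ⟨x, hxV⟩).asIdeal = q := congrArg PrimeSpectrum.asIdeal
    (show hV.primeIdealOf ⟨x, hxV⟩ = qq from
      hV.fromSpec.isOpenEmbedding.injective (hV.fromSpec_primeIdealOf ⟨x, hxV⟩))
  have hmax : P.map (algebraMap R A) = IsLocalRing.maximalIdeal A := by
    rw [IsScalarTower.algebraMap_eq R S A, ← Ideal.map_map, ← IsLocalization.AtPrime.map_eq_maximalIdeal
      (hV.primeIdealOf ⟨x, hxV⟩).asIdeal A, hpr]
  haveI hfree : Module.Free A N := by
    refine FlatRes.free_of_fibre_free (A := R) P hmax.le ?_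
    rw [hmax]
    letI := Ideal.Quotient.field (IsLocalRing.maximalIdeal A)
    infer_instance
  -- spread out
  obtain ⟨t, ht, htfree, -⟩ := Module.FinitePresentation.exists_free_localizedModule_powers
    (hD.primeIdealOf ⟨x, hxs₀⟩).asIdeal.primeCompl g A
  haveI := htfree
  haveI : Module.Finite Γ(X, D) Γ(F, D) := inferInstance
  obtain ⟨hf1, hf2⟩ := LocFree.free_finite_basicOpen hqc hD t
  have hxt : x ∈ X.basicOpen t := by
    rw [Scheme.mem_basicOpen _ _ _ hxs₀]
    exact IsLocalization.map_units A (⟨t, ht⟩ : (hD.primeIdealOf ⟨x, hxs₀⟩).asIdeal.primeCompl)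
  haveI := hf1
  haveI := hf2
  obtain ⟨n, ⟨e⟩⟩ := LocFree.exists_iso_free_of_affine (hM := hqc) (hD.basicOpen t)
  obtain ⟨s, hsle, hxs⟩ := hV.exists_basicOpen_le (V := X.basicOpen t) ⟨x, hxt⟩ hxV
  obtain ⟨hs1, hs2⟩ := LocFree.free_sections_of_le e (hV.basicOpen s) hsle
  haveI := hs1
  haveI := hs2
  haveI := hV.isLocalization_basicOpen s
  letI := Module.compHom Γ(F, X.basicOpen s) (resO X (X.basicOpen_le s))
  obtain ⟨gs, hgs, hgtow⟩ := LocFree.exists_resMap hqc hV s
  haveI := hgs
  haveI := hgtow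
  have hsq' : s ∉ q := by
    have h1 : qq ∈ hV.fromSpec ⁻¹ᵁ X.basicOpen s := hxs
    rw [hV.fromSpec_preimage_basicOpen] at h1
    exact h1
  obtain ⟨c, hc, hcs⟩ := exists_coord_nbhd P hsq'
  refine ⟨c, Module.finrank Γ(X, X.basicOpen s) Γ(F, X.basicOpen s), hc, fun p' _ _ hcp' => ?_⟩
  exact free_atPrime_of_free_away s Γ(X, X.basicOpen s) gs _ (hcs p' hcp')

end Scheme

end Groth.Agent.BlowFree
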