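import Groth.Agent.BlowFree.Local
import Groth.Agent.FlatBlowUp.Square
import Groth.Agent.ModDesc.BaseChange
import Mathlib

/-!
# Strict transforms free near the fibres after an admissible blow-up
-/

set_option autoImplicit false
set_option linter.style.haveILetI false
set_option backward.isDefEq.respectTransparency false
set_option backward.isDefEq.respectTransparency.types false

universe u

open CategoryTheory CategoryTheory.Limits AlgebraicGeometry TopologicalSpace Opposite Groth.Agent.QC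
open scoped TensorProduct

noncomputable section

namespace Groth.Agent.BlowFree

open RZExt

variable {X S : Scheme.{u}}

/-- a module free on an open cover of an open is finite locally free there -/
theorem isFinLocFree_sSup (G : X.Modules) (𝒪 : Set X.Opens)
    (h : ∀ O : X.Opens, O ∈ 𝒪 → ∃ n, Nonempty (G.restrict O.ι ≅ FlatMod.freeMod (↑O) n)) :
    FlatMod.IsFinLocFree ((Scheme.Modules.pullback (sSup 𝒪).ι).obj G) := by
  intro x
  obtain ⟨O₀, hO, hxO⟩ := Opens.mem_sSup.1 x.2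
  let O : X.Opens := O₀
  obtain ⟨n, ⟨e⟩⟩ := h O hO
  let V : X.Opens := sSup 𝒪
  let U' : V.toScheme.Opens := V.ι ⁻¹ᵁ O
  let k : (U' : Scheme.{u}) ⟶ (O : Scheme.{u}) := IsOpenImmersion.lift O.ι (U'.ι ≫ V.ι) (by
    rintro _ ⟨z, rfl⟩
    rw [Scheme.Opens.range_ι]
    exact z.2)
  have hk : k ≫ O.ι = U'.ι ≫ V.ι := IsOpenImmersion.lift_fac _ _ _
  haveI : IsOpenImmersion (k ≫ O.ι) := by rw [hk]; infer_instance
  haveI : IsOpenImmersion k := IsOpenImmersion.of_comp k O.ι
  refine ⟨U', n, hxO, ⟨(Scheme.Modules.restrictFunctor U'.ι).mapIso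
    ((Scheme.Modules.restrictFunctorIsoPullback V.ι).app G).symm ≪≫
    ((Scheme.Modules.restrictFunctorComp U'.ι V.ι).app G).symm ≪≫
    (Scheme.Modules.restrictFunctorCongr hk).symm.app G ≪≫
    (Scheme.Modules.restrictFunctorComp k O.ι).app G ≪≫
    (Scheme.Modules.restrictFunctor k).mapIso e ≪≫
    (Scheme.Modules.restrictFunctorIsoPullback k).app _ ≪≫
    Groth.Agent.DerPerf.pullFreeIso k n⟩⟩

variable (f : X ⟶ S) [IsAffineHom f] [LocallyOfFinitePresentation f] [Flat f] [GeometricallyIntegral f]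

/-- what a centre does for the piece over `W`: at every point over `W` the ideal of an auxiliary centre
is principal on a chart, and the transform is free on an open dominating the point -/
theorem exists_centre_piece [CompactSpace S] [QuasiSeparatedSpace S] {U : S.Opens} (hU : IsCompact (U : Set S))
    (F : X.Modules) (hqc : Coh.IsQCoh F) (hft : CohB1.IsFT F)
    (hfpD : ∀ D : X.Opens, IsAffineOpen D → D ≤ f ⁻¹ᵁ U → Module.FinitePresentation Γ(X, D) Γ(F, D))
    (hflU : ∀ x : X, f.base x ∈ U → closure ({f.asFiber x} : Set (f.fiber (f.base x))) = Set.univ → FlatMod.IsFlatOverAt f F x)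
    (W : S.affineOpens) :
    ∃ J₀ : Centre U, ∀ J, J₀ ≤ J → ∀ (X' : Scheme.{u}) (p₁ : X' ⟶ X) (p₂ : X' ⟶ J.T), IsPullback p₁ p₂ f J.b →
      ∀ (Gm : X'.Modules) (π : (Scheme.Modules.pullback p₁).obj F ⟶ Gm),
        BlowUp.IsStrictTransform p₁ (J.ideal.comap f) F Gm π →
        ∀ t : J.T, J.b t ∈ W.1 → ∃ (O : X'.Opens) (x' : X'), x' ∈ O ∧ p₂ x' = t ∧
          ∃ n, Nonempty (Gm.restrict O.ι ≅ FlatMod.freeMod (↑O) n) := by
  classical
  let R := Γ(S, W.1)
  let V : X.Opens := f ⁻¹ᵁ W.1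
  have hV : IsAffineOpen V := W.2.preimage f
  letI algRS : Algebra R Γ(X, V) := (f.appLE W.1 V le_rfl).hom.toAlgebra
  have hgi : FlatCA.GeomIntegralFibres R Γ(X, V) := geomIntegralFibres_appLE f W.2
  haveI : Algebra.FinitePresentation R Γ(X, V) :=
    HasRingHomProperty.appLE @LocallyOfFinitePresentation f inferInstance W ⟨V, hV⟩ le_rfl
  haveI : Module.Flat R Γ(X, V) := f.flat_appLE W.2 hV le_rfl
  haveI : F.IsQuasicoherent := hqc
  haveI : Module.Finite Γ(X, V) Γ(F, V) := QC.finite_sections hV (hM := hqc) hft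
  -- basic opens of `W` inside `U` where the rank is constant
  let K : Set S := (W.1 : Set S) ∩ U
  have hK : IsCompact K := QuasiSeparatedSpace.inter_isCompact _ _ W.1.2 W.2.isCompact U.2 hU
  have hloc : ∀ y : K, ∃ (c : R) (r : ℕ), S.basicOpen c ≤ U ∧ (y : S) ∈ S.basicOpen c ∧
      ∀ (p' : Ideal R) [p'.IsPrime] [(p'.map (algebraMap R Γ(X, V))).IsPrime], c ∉ p' →
        Module.Free (Localization.AtPrime (p'.map (algebraMap R Γ(X, V))))
          (LocalizedModule (p'.map (algebraMap R Γ(X, V))).primeCompl Γ(F, V)) ∧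
        Module.rank (Localization.AtPrime (p'.map (algebraMap R Γ(X, V))))
          (LocalizedModule (p'.map (algebraMap R Γ(X, V))).primeCompl Γ(F, V)) = r := fun y => by
    let p := W.2.primeIdealOf ⟨y, y.2.1⟩
    have hp : W.2.fromSpec p = y := W.2.fromSpec_primeIdealOf ⟨y, y.2.1⟩
    obtain ⟨c, r, hc, hfree⟩ := exists_free_nbhd f U F hqc hfpD hflU W.2 p (hp ▸ y.2.2)
    obtain ⟨c₀, hc₀, hyc₀⟩ := W.2.exists_basicOpen_le (V := U) ⟨y, y.2.2⟩ y.2.1
    refine ⟨c * c₀, r, ?_, ?_, fun p' _ _ h => hfree p' fun hcp => h (Ideal.mul_mem_right _ _ hcp)⟩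
    · rw [Scheme.basicOpen_mul]
      exact inf_le_right.trans hc₀
    · have h1 : p ∈ W.2.fromSpec ⁻¹ᵁ S.basicOpen c := by
        rw [W.2.fromSpec_preimage_basicOpen]; exact hc
      rw [Scheme.basicOpen_mul]
      exact ⟨hp ▸ h1, hyc₀⟩
  choose c r hcU hyc hfree using hloc
  obtain ⟨T, hT⟩ := hK.elim_finite_subcover (fun y => (S.basicOpen (c y) : Set S)) (fun y => (S.basicOpen (c y)).2)
    (fun y hy => Set.mem_iUnion.2 ⟨⟨y, hy⟩, hyc ⟨y, hy⟩⟩)
  let fν : Fin T.card → R := fun i => c (T.equivFin.symm i).1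
  obtain ⟨I, hIfg, hIrad, hI⟩ := exists_ideal_gen hgi Γ(F, V) fν (fun i => r (T.equivFin.symm i).1)
    fun i p _ _ h => hfree _ p h
  -- the zero locus of `I` on `W`
  have hzero : ∀ p : PrimeSpectrum R, I ≤ p.asIdeal ↔ W.2.fromSpec p ∉ U := by
    intro p
    have hmem : ∀ a : R, W.2.fromSpec p ∈ S.basicOpen a ↔ a ∉ p.asIdeal := fun a => by
      show p ∈ W.2.fromSpec ⁻¹ᵁ S.basicOpen a ↔ _
      rw [W.2.fromSpec_preimage_basicOpen]
      rfl
    constructor
    · intro hle hpU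
      obtain ⟨y, hy, hym⟩ := Set.mem_iUnion₂.1 (hT ⟨W.2.range_fromSpec.subset ⟨p, rfl⟩, hpU⟩)
      refine (hmem _).1 hym ?_
      have h1 : c y ∈ (Ideal.span (Set.range fν)).radical :=
        Ideal.le_radical (Ideal.subset_span ⟨T.equivFin ⟨y, hy⟩, by simp [fν]⟩)
      rw [← hIrad] at h1
      exact (p.isPrime.radical_le_iff.2 hle) h1
    · intro hpU
      refine Ideal.le_radical.trans ((hIrad.le).trans (p.isPrime.radical_le_iff.2 (Ideal.span_le.2 ?_)))
      rintro _ ⟨i, rfl⟩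
      by_contra hn
      exact hpU (hcU _ ((hmem _).2 hn))
  obtain ⟨I₀⟩ := nonempty_centre U hU
  obtain ⟨N, hN⟩ : ∃ N, I₀.ideal.ideal W ^ N ≤ I := by
    refine Ideal.exists_pow_le_of_le_radical_of_fg ?_ (I₀.ft W)
    rw [Ideal.radical_eq_sInf]
    refine le_sInf ?_
    rintro p ⟨hle, hp⟩
    let pp : PrimeSpectrum R := ⟨p, hp⟩
    have h1 : W.2.fromSpec pp ∈ (I₀.ideal.support : Set S) := by rw [I₀.supp]; exact (hzero pp).1 hle
    have h2 := (FittLib.mem_support_iff I₀.ideal W (W.2.range_fromSpec.subset ⟨pp, rfl⟩)).1 h1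
    rwa [show W.2.primeIdealOf ⟨W.2.fromSpec pp, W.2.range_fromSpec.subset ⟨pp, rfl⟩⟩ = pp from
      W.2.fromSpec.isOpenEmbedding.injective (W.2.fromSpec_primeIdealOf _)] at h2
  obtain ⟨J₀, -, L, hLW, hJ₀⟩ := exists_centre I₀ W N I hIfg hN
  refine ⟨J₀, fun J hJ X' p₁ p₂ hpb Gm π hπ t ht => ?_⟩
  -- a chart on which both ideals are principal
  have hL : BlowUp.IsEffCartierIdeal (L.comap J.b) := by
    have h1 := Centre.cartier_comap hJ
    rw [hJ₀, BlowUpLib.comap_mul] at h1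
    exact BlowUpLib.cartier_of_mul_right h1
  obtain ⟨G₁, htG₁, hG₁W, e₁, he₁, hG₁⟩ := BlowUpLib.exists_small_generator J.isBlowUp.1 (O := J.b ⁻¹ᵁ W.1) ht
  obtain ⟨G, htG, hGG₁, α, hα, hαgen⟩ := BlowUpLib.exists_small_generator hL htG₁
  obtain ⟨e, -, hegen⟩ := BlowUpLib.exists_generator_of_le (J.ideal.comap J.b) (U := G₁) (V := G) hGG₁ he₁ hG₁
  have hGW : G.1 ≤ J.b ⁻¹ᵁ W.1 := hGG₁.trans hG₁W
  have hbasic : J.T.basicOpen α = J.T.basicOpen e := by
    rw [Centre.basicOpen_eq hegen]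
    ext z
    constructor
    · intro hz
      have hzG := J.T.basicOpen_le α hz
      refine ⟨hzG, by_contra fun hn => ?_⟩
      refine (BlowUpLib.mem_basicOpen_of_notMem_support hαgen hzG).2 hz ?_
      rw [← SetLike.mem_coe, Scheme.IdealSheafData.support_comap, Closeds.coe_preimage, Set.mem_preimage,
        SetLike.mem_coe, FittLib.mem_support_iff L W (hGW hzG), hLW, hzero, W.2.fromSpec_primeIdealOf]
      exact hn
    · rintro ⟨hzG, hzU⟩
      refine (BlowUpLib.mem_basicOpen_of_notMem_support hαgen hzG).1 fun h => ?_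
      rw [← SetLike.mem_coe, Scheme.IdealSheafData.support_comap, Closeds.coe_preimage, Set.mem_preimage,
        SetLike.mem_coe, FittLib.mem_support_iff L W (hGW hzG), hLW, hzero, W.2.fromSpec_primeIdealOf] at h
      exact h hzU
  have hdvd : ∀ a b : Γ(J.T, G.1), J.T.basicOpen a ≤ J.T.basicOpen b → ∃ i : ℕ, b ∣ a ^ i := by
    intro a b hle
    have h1 : G.2.fromSpec ⁻¹ᵁ J.T.basicOpen a ≤ G.2.fromSpec ⁻¹ᵁ J.T.basicOpen b := fun z hz => hle hz
    rw [G.2.fromSpec_preimage_basicOpen, G.2.fromSpec_preimage_basicOpen] at h1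
    obtain ⟨i, hi⟩ := (PrimeSpectrum.basicOpen_le_basicOpen_iff a b).1 h1
    exact ⟨i, Ideal.mem_span_singleton.1 hi⟩
  obtain ⟨i₁, hi₁⟩ := hdvd α e hbasic.le
  obtain ⟨i₂, hi₂⟩ := hdvd e α hbasic.ge
  -- the piece of the pullback
  let O : X'.Opens := p₁ ⁻¹ᵁ V ⊓ p₂ ⁻¹ᵁ G.1
  have hO : IsAffineOpen O := FlatBlowUp.isAffineOpen_piece hpb W.2 hV le_rfl G.2 hGW
  have hP := (isIso_pushoutSection_iff hpb hGW (le_refl V) (rfl : O = _)).1
    (isIso_pushoutSection_of_isAffineOpen hpb hGW (le_refl V) rfl W.2 G.2 hV)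
  let B := Γ(X, V)
  let A' := Γ(J.T, G.1)
  let B' := Γ(X', O)
  let P := (Scheme.Modules.pullback p₁).obj F
  letI : Algebra R A' := (J.b.appLE W.1 G.1 hGW).hom.toAlgebra
  letI : Algebra B B' := (p₁.appLE V O inf_le_left).hom.toAlgebra
  letI : Algebra A' B' := (p₂.appLE G.1 O inf_le_right).hom.toAlgebra
  letI : Algebra R B' := ((algebraMap B B').comp (algebraMap R B)).toAlgebra
  haveI : IsScalarTower R B B' := IsScalarTower.of_algebraMap_eq fun _ => rfl
  haveI : IsScalarTower R A' B' := IsScalarTower.of_algebraMap_eq fun a => congr($(hP.w).hom a)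
  haveI : Algebra.IsPushout R B A' B' := CommRingCat.isPushout_iff_isPushout.1 hP
  haveI : Coh.IsQCoh F := hqc
  obtain ⟨Φ, hΦ⟩ := ModDesc.exists_bijective_liftBaseChange p₁ F hV hO inf_le_left
  letI : Module B Γ(P, O) := Module.compHom Γ(P, O) (algebraMap B B')
  haveI : IsScalarTower B B' Γ(P, O) := IsScalarTower.of_algebraMap_smul fun _ _ => rfl
  let l : Γ(F, V) →ₗ[B] Γ(P, O) :=
    { toFun := ModDesc.pullSectLE p₁ F V O inf_le_left
      map_add' := map_add _
      map_smul' := fun a s => ModDesc.pullSectLE_smul p₁ F V O inf_le_left a s }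
  have hbc : IsBaseChange B' l := IsBaseChange.of_equiv Φ fun y => hΦ y
  let p' := G.2.primeIdealOf ⟨t, htG⟩
  have hmapI : I.map (algebraMap R A') = Ideal.span {α} := by
    rw [← hαgen, FpqcDescent.ideal_comap_appLE L J.b W G hGW, hLW]
    rfl
  obtain ⟨j, g, hg, hgfree, -⟩ := hI A' α hα hmapI B' Γ(P, O) l hbc p'.asIdeal
  -- the transform on the piece
  have hE : (J.ideal.comap f).comap p₁ = (J.ideal.comap J.b).comap p₂ := by
    rw [← Scheme.IdealSheafData.comap_comp, hpb.w, Scheme.IdealSheafData.comap_comp]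
  haveI : Epi π := hπ.1
  have hPq : Coh.IsQCoh P := isQCoh_pullback p₁ hqc
  have hGq : Coh.IsQCoh Gm := by
    refine FlatBlowUp.isQCoh_quotient ((J.ideal.comap f).comap p₁) (fun z => ?_) hPq π hπ.2
    obtain ⟨V', e', hz, -, he'⟩ := IsTorsionIdeal.exists_small J.isBlowUp.1 p₂ z ⊤ trivial
    exact ⟨V', e', hz, by rw [hE]; exact he'⟩
  have hEO : ((J.ideal.comap f).comap p₁).ideal ⟨O, hO⟩ = Ideal.span {algebraMap A' B' e} := by
    rw [hE, FpqcDescent.ideal_comap_appLE _ p₂ G ⟨O, hO⟩ inf_le_right, hegen, Ideal.map_span, Set.image_singleton]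
    rfl
  let π' : Γ(P, O) →ₗ[B'] Γ(Gm, O) :=
    { toFun := π.app O
      map_add' := map_add _
      map_smul' := fun a y => π.app_smul a y }
  have hker : LinearMap.ker π' = FlatCA.powTorsion B' (algebraMap A' B' α) Γ(P, O) := by
    rw [powTorsion_eq Γ(P, O) (algebraMap A' B' α) (algebraMap A' B' e) (i := i₂) (j := i₁)
      (by rw [← map_pow]; exact map_dvd _ hi₂) (by rw [← map_pow]; exact map_dvd _ hi₁)]
    ext y
    rw [LinearMap.mem_ker, mem_powTorsion_iff]
    exact (hπ.2 ⟨O, hO⟩ y).trans (FlatBlowUp.killed_iff_of_span hEO P y)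
  have hsurj : Function.Surjective π' := app_surjective_of_epi hO hPq hGq π
  haveI : Module.Finite B' Γ(P, O) := by
    haveI : P.IsQuasicoherent := hPq
    exact QC.finite_sections hO (hM := hPq) (isCoh_pullback p₁ (M := F) ⟨hqc, hft⟩).2
  haveI : Module.Finite B' Γ(Gm, O) := Module.Finite.of_surjective π' hsurj
  let eG : (Γ(P, O) ⧸ FlatCA.powTorsion B' (algebraMap A' B' α) Γ(P, O)) ≃ₗ[B'] Γ(Gm, O) :=
    (Submodule.quotEquivOfEq _ _ hker.symm).trans (π'.quotKerEquivOfSurjective hsurj)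
  haveI : Module.Free (Localization (Submonoid.powers g)) (LocalizedModule.Away g Γ(Gm, O)) := by
    haveI := hgfree
    exact Module.Free.of_equiv ((IsLocalizedModule.linearEquiv (Submonoid.powers g)
      ((LocalizedModule.mkLinearMap (Submonoid.powers g) Γ(Gm, O)).comp eG.toLinearMap)
      (LocalizedModule.mkLinearMap (Submonoid.powers g) _)).symm.extendScalarsOfIsLocalization (Submonoid.powers g)
        (Localization (Submonoid.powers g)))
  obtain ⟨hf1, hf2⟩ := LocFree.free_finite_basicOpen hGq hO g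
  haveI := hf1
  haveI := hf2
  obtain ⟨n, hn⟩ := LocFree.exists_iso_free_of_affine (hM := hGq) (hO.basicOpen g)
  -- a point of that open over `t`
  have hdom := RG.Pure.isDomain_fiber_baseChange hgi A' B' p'.asIdeal
  haveI : Module.Flat A' B' := Module.Flat.isBaseChange R A' B B'
    (Algebra.IsPushout.symm (inferInstance : Algebra.IsPushout R B A' B')).out
  haveI := map_isPrime (B := B') p'.asIdeal hdom
  let Q : PrimeSpectrum B' := ⟨p'.asIdeal.map (algebraMap A' B'), inferInstance⟩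
  have hQp : Q.comap (algebraMap A' B') = p' := by
    refine PrimeSpectrum.ext (le_antisymm (fun a ha => ?_) Ideal.le_comap_map)
    by_contra hn
    have h1 : p'.asIdeal.map (algebraMap A' B') ≤
        RingHom.ker (Algebra.TensorProduct.includeRight : B' →ₐ[A'] p'.asIdeal.Fiber B').toRingHom :=
      Ideal.map_le_iff_le_comap.2 fun b hb => by
        rw [Ideal.mem_comap, RingHom.mem_ker]
        show (Algebra.TensorProduct.includeRight : B' →ₐ[A'] p'.asIdeal.Fiber B') (algebraMap A' B' b) = 0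
        rw [AlgHom.commutes, IsScalarTower.algebraMap_apply A' p'.asIdeal.ResidueField (p'.asIdeal.Fiber B'),
          Ideal.algebraMap_residueField_eq_zero.2 hb, map_zero]
    have h2 : (Algebra.TensorProduct.includeRight : B' →ₐ[A'] p'.asIdeal.Fiber B') (algebraMap A' B' a) = 0 := h1 ha
    rw [AlgHom.commutes, IsScalarTower.algebraMap_apply A' p'.asIdeal.ResidueField (p'.asIdeal.Fiber B')] at h2
    have h3 : algebraMap A' p'.asIdeal.ResidueField a ≠ 0 := fun h0 => hn (Ideal.algebraMap_residueField_eq_zero.1 h0)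
    exact ((isUnit_iff_ne_zero.2 h3).map (algebraMap p'.asIdeal.ResidueField (p'.asIdeal.Fiber B'))).ne_zero h2
  refine ⟨X'.basicOpen g, hO.fromSpec Q, ?_, ?_, n, hn⟩
  · show Q ∈ hO.fromSpec ⁻¹ᵁ X'.basicOpen g
    rw [hO.fromSpec_preimage_basicOpen]
    exact hg
  · have h1 := congr($(G.2.SpecMap_appLE_fromSpec p₂ hO (inf_le_right : O ≤ p₂ ⁻¹ᵁ G.1)) Q)
    simp only [Scheme.Hom.comp_apply] at h1
    rw [← h1]
    show G.2.fromSpec (Q.comap (algebraMap A' B')) = t
    rw [hQp]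
    exact G.2.fromSpec_primeIdealOf ⟨t, htG⟩

/-- **Strict transforms are finite locally free near the fibres.** -/
theorem exists_centre_free [CompactSpace S] [QuasiSeparatedSpace S] {U : S.Opens} (hU : IsCompact (U : Set S))
    (F : X.Modules) (hqc : Coh.IsQCoh F) (hft : CohB1.IsFT F)
    (hfpU : CohB1.IsFP ((Scheme.Modules.pullback (f ⁻¹ᵁ U).ι).obj F))
    (hflU : ∀ x : X, f.base x ∈ U → closure ({f.asFiber x} : Set (f.fiber (f.base x))) = Set.univ → FlatMod.IsFlatOverAt f F x) :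
    ∃ J : Centre U, ∀ (X' : Scheme.{u}) (p₁ : X' ⟶ X) (p₂ : X' ⟶ J.T), IsPullback p₁ p₂ f J.b →
      ∀ (G : X'.Modules) (π : (Scheme.Modules.pullback p₁).obj F ⟶ G),
        BlowUp.IsStrictTransform p₁ (J.ideal.comap f) F G π →
        ∃ V : X'.Opens, FlatMod.IsFinLocFree ((Scheme.Modules.pullback V.ι).obj G) ∧
          Function.Surjective (V.ι ≫ p₂).base := by
  classical
  have hres : CohB1.IsFP (F.restrict (f ⁻¹ᵁ U).ι) :=
    FlatBlowUp.isFP_congr ((Scheme.Modules.restrictFunctorIsoPullback (f ⁻¹ᵁ U).ι).app F).symm hfpU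
  have hfpD : ∀ D : X.Opens, IsAffineOpen D → D ≤ f ⁻¹ᵁ U → Module.FinitePresentation Γ(X, D) Γ(F, D) :=
    fun D hD hDU => LocFree.finitePresentation_sections_of_local hqc hD fun x hx => by
      obtain ⟨W, hxW, hW⟩ := isFP_iff_exists_hasFinPres.1 hres ⟨x, hDU hx⟩
      exact ⟨(f ⁻¹ᵁ U).ι ''ᵁ W, ⟨⟨x, hDU hx⟩, hxW, rfl⟩, fun D' hD' hle =>
        LocFree.fp_of_hasFinPres hqc hD' (hW.image.mono hle)⟩
  choose J₀ hJ₀ using exists_centre_piece f hU F hqc hft hfpD hflU
  have hcov : ∀ y : S, ∃ W : S.affineOpens, y ∈ W.1 := fun y => by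
    obtain ⟨W, hW, hy, -⟩ := exists_isAffineOpen_mem_and_subset (X := S) (U := ⊤) (x := y) trivial
    exact ⟨⟨W, hW⟩, hy⟩
  choose W hW using hcov
  obtain ⟨T, hT⟩ := isCompact_univ.elim_finite_subcover (fun y => ((W y).1 : Set S)) (fun y => (W y).1.2)
    (fun y _ => Set.mem_iUnion.2 ⟨y, hW y⟩)
  haveI := nonempty_centre U hU
  obtain ⟨J, hJ⟩ := Directed.finset_le (r := (· ≤ ·)) (f := id) (directed_id) (T.image fun y => J₀ (W y))
  refine ⟨J, fun X' p₁ p₂ hpb G π hπ => ?_⟩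
  refine ⟨sSup {O : X'.Opens | ∃ n, Nonempty (G.restrict O.ι ≅ FlatMod.freeMod (↑O) n)},
    isFinLocFree_sSup G _ fun O hO => hO, fun t => ?_⟩
  obtain ⟨y, hy, hty⟩ := Set.mem_iUnion₂.1 (hT (Set.mem_univ (J.b t)))
  obtain ⟨O, x', hx', hxt, hfree⟩ := hJ₀ (W y) J (hJ _ (Finset.mem_image_of_mem _ hy)) X' p₁ p₂ hpb G π hπ t hty
  exact ⟨⟨x', Opens.mem_sSup.2 ⟨O, hfree, hx'⟩⟩, hxt⟩

end Groth.Agent.BlowFree
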